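import Groth.Agent.CAlgH.BlowupFlatPowers
import Groth.Agent.CAlgH.KoszulImmersion
import Groth.Agent.CAlgH.KoszulChart
import Groth.Agent.CAlgSmall.H1Regular
import Groth.Agent.SDiv28.KoszulH1
import Groth.Agent.SDiv28.SmoothRegImm
import Groth.Agent.TransFlatH2.Basic
import Groth.Agent.KRR28.Centre
import Groth.Agent.P1Lib24.Basic
import Groth.Prelude.Def_RegImm

/-!
# The centre of the deformation to the normal cone over an arbitrary base
-/

set_option autoImplicit false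
set_option backward.isDefEq.respectTransparency.types false
set_option linter.style.haveILetI false

universe u

open CategoryTheory CategoryTheory.Limits AlgebraicGeometry Opposite

namespace Groth.Agent.DefSp24

variable {S X Y : Scheme.{u}}

instance smooth_toBase (X : Scheme.{u}) : Smooth (CohB1.ProjSpaceOver.toBase 1 X) := by
  have h := P1Lib24.smooth_projLine (ULift.{u} ℤ)
  unfold CohB1.ProjSpaceOver.toBase
  exact MorphismProperty.pullback_snd _ _ h

instance isClosedImmersion_sect (X : Scheme.{u}) (i : Fin (1 + 1)) : IsClosedImmersion (P1.sect X i) :=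
  KRR28.isClosedImmersion_sect X i

theorem isRegularImmersion_koszul_of_mor2 {Z P : Scheme.{u}} (s : Z ⟶ P) (h : Mor2.IsRegularClosedImmersion s) :
    RegImm.IsRegularImmersion RegImm.Kind.koszul s := by
  haveI := h.1
  refine ⟨inferInstance, fun z => ?_⟩
  obtain ⟨U, hU, hzU, rs, hrs, hid⟩ := h.2 z
  exact ⟨⟨U, hU⟩, hzU, inferInstance, rs, BlowUpCoh.isKoszulRegularSeq_of_isRegular hrs,
    (Scheme.Hom.ker_apply s ⟨U, hU⟩).symm.trans hid⟩

theorem isRegularImmersion_koszul_of_regular {Z P : Scheme.{u}} {c : ℕ} (s : Z ⟶ P)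
    (h : RegImm.IsRegularImmersionOfCodim RegImm.Kind.regular c s) :
    RegImm.IsRegularImmersion RegImm.Kind.koszul s :=
  ⟨h.1, fun z => by
    obtain ⟨U, hzU, hcl, rs, -, hrs, hid⟩ := h.2 z
    exact ⟨U, hzU, hcl, rs, BlowUpCoh.isKoszulRegularSeq_of_isRegular hrs, hid⟩⟩

theorem isRegularImmersion_sect (X : Scheme.{u}) (i : Fin (1 + 1)) :
    RegImm.IsRegularImmersion RegImm.Kind.koszul (P1.sect X i) :=
  isRegularImmersion_koszul_of_mor2 _
    (SDiv28.SmoothRegImm.isRegularClosedImmersion_section (CohB1.ProjSpaceOver.toBase 1 X) _ (P1Lib24.sect_toBase X i))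

theorem flat_powers {P Z : Scheme.{u}} (g : P ⟶ S) (s : Z ⟶ P) [IsClosedImmersion s] [Flat (s ≫ g)]
    (hs : RegImm.IsRegularImmersion RegImm.Kind.koszul s) (n : ℕ) :
    Flat ((s.ker ^ (n + 1)).subschemeι ≫ g) := by
  haveI : Flat (s.ker.subschemeι ≫ g) := by
    have h : Flat (s.toImage ≫ s.ker.subschemeι ≫ g) := by
      rw [← Category.assoc]
      exact (show s.toImage ≫ s.ker.subschemeι = s from s.toImage_imageι).symm ▸ (inferInstance : Flat (s ≫ g))
    exact (MorphismProperty.cancel_left_of_respectsIso (P := @Flat) _ _).1 h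
  refine SDiv28.flat_of_local _ g fun x => ?_
  obtain ⟨W, hW, hxW, -⟩ := exists_isAffineOpen_mem_and_subset (x := g x) (U := (⊤ : S.Opens)) trivial
  by_cases hx : x ∈ Set.range s.base
  · obtain ⟨z, rfl⟩ := hx
    obtain ⟨U, hzU, -, rs, hrs, hid⟩ := hs.2 z
    obtain ⟨V, hV, hxV, hle⟩ := exists_isAffineOpen_mem_and_subset (x := s z) (U := U.1 ⊓ g ⁻¹ᵁ W) ⟨hzU, hxW⟩
    have hVU : V ≤ U.1 := fun p hp => (hle hp).1
    have e : V ≤ g ⁻¹ᵁ W := fun p hp => (hle hp).2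
    refine ⟨⟨W, hW⟩, ⟨V, hV⟩, hxV, e, ?_⟩
    let φ := (P.presheaf.map (homOfLE hVU).op).hom
    have hk : LCI.IsKoszulRegularSeq Γ(P, V) (rs.map φ) :=
      CAlgH.KoszulChart.isKoszulRegularSeq_map (CAlgH.KoszulChart.flat_restrict U.2 hV hVU) hrs
    have hid' : s.ker.ideal ⟨V, hV⟩ = Ideal.span (Set.range (rs.map φ).get) := by
      rw [← s.ker.map_ideal (U := ⟨V, hV⟩) (V := U) hVU, Scheme.Hom.ker_apply, hid, Ideal.map_ofList,
        Ideal.ofList, Set.range_list_get]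
      rfl
    have hq := CAlgSmall.H1.isQuasiRegular _ (SDiv28.RegSeq.seq_of_koszul hk)
    letI := (g.appLE W V e).hom.toAlgebra
    haveI : Module.Flat Γ(S, W) (Γ(P, V) ⧸ Ideal.span (Set.range (rs.map φ).get)) := by
      have h1 := SDiv28.flat_quot_of_flat s.ker g (U := ⟨W, hW⟩) (V := ⟨V, hV⟩) e
      rw [hid'] at h1
      exact h1
    have h2 := TransFlatH2.flat_quotient_pow (A := Γ(S, W)) _ hq (n + 1)
    rw [show (s.ker ^ (n + 1)).ideal ⟨V, hV⟩ = s.ker.ideal ⟨V, hV⟩ ^ (n + 1) from rfl, hid']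
    exact h2
  · have ho : x ∈ (⟨(Set.range s.base)ᶜ, s.isClosedEmbedding.isClosed_range.isOpen_compl⟩ : P.Opens) := hx
    obtain ⟨V, hV, hxV, hle⟩ := exists_isAffineOpen_mem_and_subset (x := x)
      (U := (⟨(Set.range s.base)ᶜ, s.isClosedEmbedding.isClosed_range.isOpen_compl⟩ : P.Opens) ⊓ g ⁻¹ᵁ W) ⟨ho, hxW⟩
    refine ⟨⟨W, hW⟩, ⟨V, hV⟩, hxV, fun p hp => (hle hp).2, ?_⟩
    have htop : s.ker.ideal ⟨V, hV⟩ = ⊤ := by
      rw [Scheme.Hom.ker_apply, Ideal.eq_top_iff_one, RingHom.mem_ker]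
      have he : s ⁻¹ᵁ V = ⊥ := TopologicalSpace.Opens.ext (Set.eq_empty_iff_forall_notMem.2 fun z hz => (hle hz).1 ⟨z, rfl⟩)
      haveI : Subsingleton Γ(Z, s ⁻¹ᵁ V) := by rw [he]; infer_instance
      exact Subsingleton.elim _ _
    rw [show (s.ker ^ (n + 1)).ideal ⟨V, hV⟩ = s.ker.ideal ⟨V, hV⟩ ^ (n + 1) from rfl, htop, Ideal.top_pow]
    haveI : Subsingleton (Γ(P, V) ⧸ (⊤ : Ideal Γ(P, V))) := Ideal.Quotient.subsingleton_iff.2 rfl
    letI := ((Ideal.Quotient.mk (⊤ : Ideal Γ(P, V))).comp (g.appLE W V (fun p hp => (hle hp).2)).hom).toAlgebra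
    show Module.Flat Γ(S, W) (Γ(P, V) ⧸ (⊤ : Ideal Γ(P, V)))
    haveI := Module.Free.of_subsingleton Γ(S, W) (Γ(P, V) ⧸ (⊤ : Ideal Γ(P, V)))
    infer_instance

theorem isBlowUp_baseChange {S' X' Y' M M' : Scheme.{u}} (f : X ⟶ S) {c : ℕ} (i : Y ⟶ X) [IsClosedImmersion i]
    (hi : RegImm.IsRegularImmersionOfCodim RegImm.Kind.regular c i) [Flat (i ≫ f)]
    (b : M ⟶ CohB1.ProjSpaceOver 1 X) (hb : BlowUp.IsBlowUp b (i ≫ P1.sect X 1).ker)
    (h : S' ⟶ S) (f' : X' ⟶ S') (g : X' ⟶ X) (hX : IsPullback g f' f h)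
    (i' : Y' ⟶ X') (gY : Y' ⟶ Y) (hY : IsPullback gY i' i g)
    (b' : M' ⟶ CohB1.ProjSpaceOver 1 X') (μ : M' ⟶ M) (hM : IsPullback μ b' b (P1.toP1 g)) :
    BlowUp.IsBlowUp b' (i' ≫ P1.sect X' 1).ker := by
  let s := i ≫ P1.sect X 1
  let G := CohB1.ProjSpaceOver.toBase 1 X ≫ f
  haveI : IsClosedImmersion i' := MorphismProperty.of_isPullback hY inferInstance
  haveI : Flat (s ≫ G) := by
    have : s ≫ G = i ≫ f := by
      simp only [s, G, Category.assoc]
      rw [← Category.assoc (P1.sect X 1), P1Lib24.sect_toBase, Category.id_comp]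
    rw [this]; infer_instance
  have hs : RegImm.IsRegularImmersion RegImm.Kind.koszul s :=
    CAlgH.KoszulImmersion.comp (P1.sect X 1) i (isRegularImmersion_sect X 1) (isRegularImmersion_koszul_of_regular i hi)
  have hsq : IsPullback (P1.toP1 g) (CohB1.ProjSpaceOver.toBase 1 X') (CohB1.ProjSpaceOver.toBase 1 X) g :=
    KPr28.isPullback_projSpaceMap 1 g (pullback.lift_snd _ _ _)
  have h1 := CAlgH.BlowupFlatPowers.isBlowUp_baseChange G s.ker (fun n => flat_powers G s hs n) hb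
    (hsq.paste_vert hX) hM
  have hc : IsPullback gY (i' ≫ P1.sect X' 1) s (P1.toP1 g) :=
    hY.paste_vert (KRR28.isPullback_sect g 1).flip
  have h2 : s.ker.comap (P1.toP1 g) = (i' ≫ P1.sect X' 1).ker := by
    rw [← CycLib28.ker_pullback_snd]
    conv_rhs => rw [← hc.isoPullback_hom_snd, Scheme.Hom.ker_comp_of_isIso]
  rw [← h2]
  exact h1

end Groth.Agent.DefSp24
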