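import Groth.Agent.DefSp24.StrictAlg
import Groth.Agent.FlatMorKoszul.Quot

/-!
# Charts of a blowing-up restricted to a regularly embedded closed subscheme
-/

set_option autoImplicit false
set_option backward.isDefEq.respectTransparency false
set_option linter.style.haveILetI false
set_option maxSynthPendingDepth 3
set_option maxHeartbeats 800000
set_option synthInstance.maxHeartbeats 100000

universe u

open MvPolynomial RingTheory.Sequence
open Groth.Agent.CAlgH.KoszulRegular Groth.Agent.BlowUpKoszul Groth.Agent.KRR28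

noncomputable section

namespace Groth.Agent.DefSp24

variable {A B : Type u} [CommRing A] [CommRing B]

theorem kreg_equivFin {n n' : ℕ} {f : Fin n → A} (e : Fin n' ≃ Fin n) (h : KReg f) : KReg (fun i => f (e i)) := by
  obtain rfl : n' = n := by simpa using Fintype.card_congr e
  exact kreg_reindex e h

theorem isWeaklyRegular_map_of_append {χ : A →+* B} (hχ : Function.Surjective χ) {rs rs' : List A}
    (hk : RingHom.ker χ = Ideal.ofList rs) (h : IsWeaklyRegular A (rs ++ rs')) :
    IsWeaklyRegular B (rs'.map χ) := by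
  rw [isWeaklyRegular_append_iff] at h
  letI := χ.toAlgebra
  let e : (A ⧸ (Ideal.ofList rs • (⊤ : Submodule A A))) ≃ₗ[A] B :=
    (Submodule.quotEquivOfEq _ _ (by
      rw [smul_eq_mul, Ideal.mul_top, ← hk]
      rfl)).trans (LinearMap.quotKerEquivOfSurjective (Algebra.linearMap A B) hχ)
  exact (isWeaklyRegular_map_algebraMap_iff B B _).2 ((e.isWeaklyRegular_congr _).1 h.2)

theorem isWeaklyRegular_append_of_map {χ : A →+* B} (hχ : Function.Surjective χ) {rs rs' : List A}
    (hk : RingHom.ker χ = Ideal.ofList rs) (h₁ : IsWeaklyRegular A rs) (h₂ : IsWeaklyRegular B (rs'.map χ)) :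
    IsWeaklyRegular A (rs ++ rs') := by
  rw [isWeaklyRegular_append_iff]
  refine ⟨h₁, ?_⟩
  letI := χ.toAlgebra
  let e : (A ⧸ (Ideal.ofList rs • (⊤ : Submodule A A))) ≃ₗ[A] B :=
    (Submodule.quotEquivOfEq _ _ (by
      rw [smul_eq_mul, Ideal.mul_top, ← hk]
      rfl)).trans (LinearMap.quotKerEquivOfSurjective (Algebra.linearMap A B) hχ)
  exact (e.isWeaklyRegular_congr _).2 ((isWeaklyRegular_map_algebraMap_iff B B _).1 h₂)

variable {m m' : ℕ} {I : Ideal A} {I' : Ideal B} (f : Fin (m + 1) → A) (f' : Fin (m' + 1) → B)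
  (hI : I = Ideal.span (Set.range f)) (hI' : I' = Ideal.span (Set.range f')) (φ : A →+* B)
  (σ : Fin m → Option (Fin m'))

theorem map_rat (ψ : CR I (f 0) →+* CR I' (f' 0))
    (hψ : ∀ x, ψ (algebraMap A (CR I (f 0)) x) = algebraMap B (CR I' (f' 0)) (φ x)) (hf0 : φ (f 0) = f' 0)
    (hf : ∀ j, φ (f j.succ) = (σ j).elim 0 (fun i => f' i.succ)) (j : Fin m) :
    ψ (rat f hI j) = (σ j).elim 0 (rat f' hI') := by
  refine sub_eq_zero.1 (isSMulRegular_chart _ _ ((mul_sub _ _ _).trans (sub_eq_zero.2 ?_)))
  have h1 : ψ (algebraMap A (CR I (f 0)) (f 0)) * ψ (rat f hI j) = ψ (algebraMap A (CR I (f 0)) (f j.succ)) := by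
    rw [← map_mul, algebraMap_mul_rat]
  rw [hψ, hψ, hf0, hf] at h1
  rw [h1]
  rcases σ j with _ | i
  · simp
  · exact (algebraMap_mul_rat f' hI' i).symm

include hI hI' in
theorem exists_chartHom (hf0 : φ (f 0) = f' 0) (hf : ∀ j, φ (f j.succ) = (σ j).elim 0 (fun i => f' i.succ)) :
    ∃ ψ : CR I (f 0) →+* CR I' (f' 0),
      ∀ x, ψ (algebraMap A (CR I (f 0)) x) = algebraMap B (CR I' (f' 0)) (φ x) := by
  let L := Localization.Away (f 0)
  let L' := Localization.Away (f' 0)
  let e : L →+* L' := IsLocalization.Away.lift (f 0) (g := (algebraMap B L').comp φ)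
    (show IsUnit (algebraMap B L' (φ (f 0))) from by rw [hf0]; exact IsLocalization.Away.algebraMap_isUnit (f' 0))
  have he : ∀ x, e (algebraMap A L x) = algebraMap B L' (φ x) := fun x => IsLocalization.Away.lift_eq _ _ _
  let ψ : CR I (f 0) →+* L' := e.comp (BlowUp.affineAlgebra A I (f 0)).val.toRingHom
  let r : Fin m → CR I' (f' 0) := fun j => (σ j).elim 0 (rat f' hI')
  have hru : IsUnit (algebraMap B L' (f' 0)) := IsLocalization.Away.algebraMap_isUnit (f' 0)
  have hψr : ∀ j, ψ (rat f hI j) = (r j : L') := fun j => hru.mul_left_cancel (by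
    show algebraMap B L' (f' 0) * e (rat f hI j : L) = _
    have h1 : e (algebraMap A L (f 0)) * e (rat f hI j : L) = e (algebraMap A L (f j.succ)) := by
      rw [← map_mul]
      exact congrArg e (congrArg Subtype.val (algebraMap_mul_rat f hI j))
    rw [he, he, hf0, hf] at h1
    refine h1.trans ?_
    simp only [r]
    rcases σ j with _ | i
    · show algebraMap B L' 0 = algebraMap B L' (f' 0) * ((0 : CR I' (f' 0)) : L')
      rw [map_zero, ZeroMemClass.coe_zero, mul_zero]
    · exact (congrArg Subtype.val (algebraMap_mul_rat f' hI' i)).symm)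
  have hmem : ∀ z : CR I (f 0), ψ z ∈ BlowUp.affineAlgebra B I' (f' 0) := fun z => by
    obtain ⟨p, rfl⟩ := aeval_rat_surjective f hI z
    induction p using MvPolynomial.induction_on with
    | C c =>
      rw [aeval_C]
      exact (he c).symm ▸ Subalgebra.algebraMap_mem _ _
    | add p q hp hq => rw [map_add, map_add]; exact add_mem hp hq
    | mul_X p i hp => rw [map_mul, map_mul, aeval_X, hψr]; exact mul_mem hp (SetLike.coe_mem _)
  exact ⟨ψ.codRestrict (BlowUp.affineAlgebra B I' (f' 0)).toSubsemiring hmem, fun x => Subtype.ext (he x)⟩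

include hI' in
theorem surjective_ker_chartHom (τ : Fin m' → Fin m) (hτ : ∀ i, σ (τ i) = some i)
    (hτ' : ∀ j i, σ j = some i → τ i = j) (hφ : Function.Surjective φ) (hf0 : φ (f 0) = f' 0)
    (hf : ∀ j, φ (f j.succ) = (σ j).elim 0 (fun i => f' i.succ))
    (hker : RingHom.ker φ ≤ Ideal.span ((fun j => f j.succ) '' {j | σ j = none})) (hk : KReg f')
    (ψ : CR I (f 0) →+* CR I' (f' 0))
    (hψ : ∀ x, ψ (algebraMap A (CR I (f 0)) x) = algebraMap B (CR I' (f' 0)) (φ x)) :
    Function.Surjective ψ ∧ RingHom.ker ψ = Ideal.span (rat f hI '' {j | σ j = none}) := by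
  have hψr := map_rat f f' hI hI' φ σ ψ hψ hf0 hf
  let h : MvPolynomial (Fin m) A →+* MvPolynomial (Fin m') B :=
    eval₂Hom (C.comp φ) (fun j => (σ j).elim 0 X)
  have hψp : ∀ p, ψ (aeval (rat f hI) p) = aeval (rat f' hI') (h p) := by
    intro p
    induction p using MvPolynomial.induction_on with
    | C c => simp only [aeval_C, h, eval₂Hom_C, RingHom.comp_apply, hψ]
    | add p q hp hq => simp only [map_add, hp, hq]
    | mul_X p i hp =>
      simp only [map_mul, hp, aeval_X, hψr, h, eval₂Hom_X']
      rcases σ i with _ | k <;> simp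
  have hh : Function.Surjective h := fun q => by
    induction q using MvPolynomial.induction_on with
    | C c =>
      obtain ⟨c, rfl⟩ := hφ c
      exact ⟨C c, eval₂Hom_C _ _ c⟩
    | add p q hp hq =>
      obtain ⟨p', rfl⟩ := hp
      obtain ⟨q', rfl⟩ := hq
      exact ⟨p' + q', map_add _ _ _⟩
    | mul_X p i hp =>
      obtain ⟨p', rfl⟩ := hp
      exact ⟨p' * X (τ i), by simp [h, hτ]⟩
  refine ⟨fun z => ?_, le_antisymm (fun z hz => ?_) (Ideal.span_le.2 ?_)⟩
  · obtain ⟨q, rfl⟩ := aeval_rat_surjective f' hI' z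
    obtain ⟨p, rfl⟩ := hh q
    exact ⟨_, hψp p⟩
  swap
  · rintro _ ⟨j, hj, rfl⟩
    show ψ _ = 0
    rw [hψr, show σ j = none from hj]
    rfl
  obtain ⟨p, rfl⟩ := aeval_rat_surjective f hI z
  let R := CR I (f 0)
  let J : Ideal R := Ideal.span (rat f hI '' {j | σ j = none})
  let mkQ : R →+* R ⧸ J := Ideal.Quotient.mk J
  have hQ0 : ∀ j, σ j = none → mkQ (rat f hI j) = 0 := fun j hj =>
    Ideal.Quotient.eq_zero_iff_mem.2 (Ideal.subset_span ⟨j, hj, rfl⟩)
  have hle0 : RingHom.ker φ ≤ RingHom.ker (mkQ.comp (algebraMap A R)) := by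
    refine hker.trans (Ideal.span_le.2 ?_)
    rintro _ ⟨j, hj, rfl⟩
    show mkQ (algebraMap A R (f j.succ)) = 0
    rw [← algebraMap_mul_rat f hI j, map_mul, hQ0 j hj, mul_zero]
  let ι : B →+* R ⧸ J := RingHom.liftOfSurjective φ hφ ⟨mkQ.comp (algebraMap A R), hle0⟩
  have hι : ∀ x, ι (φ x) = mkQ (algebraMap A R x) := fun x => by
    simp only [ι, RingHom.liftOfSurjective, RingHom.liftOfRightInverse_comp_apply]
    rfl
  let g : MvPolynomial (Fin m') B →+* R ⧸ J := eval₂Hom ι (fun i => mkQ (rat f hI (τ i)))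
  have hg : g.comp h = mkQ.comp (aeval (rat f hI)).toRingHom := by
    refine MvPolynomial.ringHom_ext (fun c => ?_) (fun i => ?_)
    · show g (h (C c)) = mkQ (aeval (rat f hI) (C c))
      simp only [h, g, eval₂Hom_C, RingHom.comp_apply, aeval_C]
      exact hι c
    · show g (h (X i)) = mkQ (aeval (rat f hI) (X i))
      simp only [h, eval₂Hom_X', aeval_X]
      rcases hi : σ i with _ | k
      · simp only [Option.elim_none, map_zero]
        exact (hQ0 i hi).symm
      · simp only [Option.elim_some, g, eval₂Hom_X']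
        rw [hτ' i k hi]
  have hrel : h p ∈ Ideal.span (Set.range (rel f' 0)) := by
    rw [← ker_aeval_ratio f' 0 hk, RingHom.mem_ker, ← aeval_rat_val f' hI' (h p), ← hψp,
      RingHom.mem_ker.1 hz]
    rfl
  have hle : Ideal.span (Set.range (rel f' 0)) ≤ RingHom.ker g := by
    rw [Ideal.span_le]
    rintro _ ⟨k, rfl⟩
    simp only [rel, Fin.succAbove_zero, SetLike.mem_coe, RingHom.mem_ker, map_sub, map_mul, g, eval₂Hom_C,
      eval₂Hom_X', sub_eq_zero]
    have h1 := hf (τ k)
    rw [hτ] at h1
    rw [← hf0, ← (show φ (f (τ k).succ) = f' k.succ from h1), hι, hι, ← map_mul, algebraMap_mul_rat]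
  refine Ideal.Quotient.eq_zero_iff_mem.1 ?_
  exact ((RingHom.congr_fun hg p).symm).trans (RingHom.mem_ker.1 (hle hrel))

/-- If `f` is Koszul regular and some of `f 1, …, f m` form a regular sequence, so do their ratios in the
chart at `f 0`. -/
theorem isWeaklyRegular_rat_sub : ∀ {c : ℕ} {A : Type u} [CommRing A] {m : ℕ} {I : Ideal A}
    (f : Fin (m + 1) → A) (hI : I = Ideal.span (Set.range f)) (_ : KReg f) (e : Fin c → Fin m)
    (_ : Function.Injective e) (_ : IsWeaklyRegular A (List.ofFn fun j => f (e j).succ)),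
    IsWeaklyRegular (CR I (f 0)) (List.ofFn fun j => rat f hI (e j)) := by
  intro c
  induction c with
  | zero =>
    intro A _ m I f hI _ e _ _
    rw [List.ofFn_zero]
    exact IsWeaklyRegular.nil _ _
  | succ c ih =>
    intro A _ m I f hI hk e he hw
    cases m with
    | zero => exact (e 0).elim0
    | succ m =>
    rw [List.ofFn_succ] at hw ⊢
    let p := e 0
    let a := f p.succ
    let B := A ⧸ Ideal.span {a}
    let π : A →+* B := Ideal.Quotient.mk _
    have hπ : Function.Surjective π := Ideal.Quotient.mk_surjective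
    have hπa : π a = 0 := Ideal.Quotient.eq_zero_iff_mem.2 (Ideal.mem_span_singleton_self a)
    let f' : Fin (m + 1) → B := fun i => π (f (p.succ.succAbove i))
    have hf0 : π (f 0) = f' 0 := by simp [f', Fin.succ_succAbove_zero]
    have hf's : ∀ i : Fin m, f' i.succ = π (f (p.succAbove i).succ) := fun i => by
      simp [f', Fin.succ_succAbove_succ]
    let σ : Fin (m + 1) → Option (Fin m) := finSuccEquiv' p
    have hf : ∀ j, π (f j.succ) = (σ j).elim 0 (fun i => f' i.succ) := fun j => by
      rcases Fin.eq_self_or_eq_succAbove p j with rfl | ⟨i, rfl⟩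
      · simp only [σ, finSuccEquiv'_at, Option.elim_none]
        exact hπa
      · simp only [σ, finSuccEquiv'_succAbove, Option.elim_some, hf's]
    have hareg : IsSMulRegular A a := ((isWeaklyRegular_cons_iff _ _ _).1 hw).1
    have hk' : KReg f' := by
      let l : Fin (m + 1) → A := fun i => f (p.succ.succAbove i)
      let κ : Fin 1 → A := fun _ => a
      have hκ : KReg κ := CAlgH.KoszulH1.kreg_of_isWeaklyRegular (by
        rw [List.ofFn_succ, List.ofFn_zero, isWeaklyRegular_singleton_iff]
        exact hareg)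
      have hall : KReg (Fin.append l κ) := by
        let μ : Fin (m + 1 + 1) → Fin (m + 1 + 1) := Fin.append p.succ.succAbove (fun _ : Fin 1 => p.succ)
        have hμ : Function.Injective μ := by
          show Function.Injective (Fin.append p.succ.succAbove (fun _ : Fin 1 => p.succ))
          rw [Fin.append_right_eq_snoc]
          exact Fin.snoc_injective_iff.2 ⟨Fin.succAbove_right_injective, fun ⟨i, hi⟩ => Fin.succAbove_ne _ i hi⟩
        have h := kreg_reindex (Equiv.ofBijective μ hμ.bijective_of_finite) hk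
        convert h using 1
        funext i
        refine Fin.addCases (fun i => ?_) (fun i => ?_) i <;> simp [μ, l, κ, a]
      exact FlatMorKoszul.kreg_of_append hπ
        (by rw [Ideal.mk_ker, Set.range_const]) hκ hall
    have hker : RingHom.ker π ≤ Ideal.span ((fun j => f j.succ) '' {j | σ j = none}) := by
      rw [Ideal.mk_ker, Ideal.span_singleton_le_iff_mem]
      exact Ideal.subset_span ⟨p, finSuccEquiv'_at p, rfl⟩
    let I' := Ideal.span (Set.range f')
    obtain ⟨χ, hχ⟩ := exists_chartHom f f' hI (rfl : I' = _) π σ hf0 hf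
    obtain ⟨hχs, hχk⟩ := surjective_ker_chartHom f f' hI (rfl : I' = _) π σ p.succAbove
      (fun i => finSuccEquiv'_succAbove p i) (fun j i hji => by
        rcases Fin.eq_self_or_eq_succAbove p j with rfl | ⟨k, rfl⟩
        · simp [σ] at hji
        · simp only [σ, finSuccEquiv'_succAbove, Option.some.injEq] at hji
          rw [hji]) hπ hf0 hf hker hk' χ hχ
    have hset : {j | σ j = none} = {p} := Set.ext fun j => by
      rcases Fin.eq_self_or_eq_succAbove p j with rfl | ⟨k, rfl⟩
      · simp [σ]
      · simp [σ, Fin.succAbove_ne]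
    rw [hset, Set.image_singleton] at hχk
    have hne : ∀ i : Fin c, e i.succ ≠ p := fun i h => Fin.succ_ne_zero i (he h)
    choose e' he' using fun i => Fin.exists_succAbove_eq (hne i)
    have he'inj : Function.Injective e' := fun i i' h => by
      have := congrArg p.succAbove h
      rw [he', he'] at this
      exact Fin.succ_injective _ (he this)
    have hw' : IsWeaklyRegular B (List.ofFn fun i => f' (e' i).succ) := by
      have h := isWeaklyRegular_map_of_cons π hπ Ideal.mk_ker hw
      rw [List.map_ofFn] at h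
      simpa only [Function.comp_def, hf's, he'] using h
    refine weaklyRegular_cons_of_quotient χ hχs _ hχk ?_ _ ?_
    · let L := Localization.Away (f 0)
      haveI : Module.Flat A L := IsLocalization.flat L (Submonoid.powers (f 0))
      intro x y hxy
      refine Subtype.ext (hareg.of_flat ?_)
      have h0 : algebraMap A L a * (x : L) = algebraMap A L a * (y : L) := by
        have h1 : (algebraMap A (CR I (f 0)) (f 0) * rat f hI p) * x =
            (algebraMap A (CR I (f 0)) (f 0) * rat f hI p) * y := by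
          rw [mul_assoc, mul_assoc]; exact congrArg (_ * ·) hxy
        rw [algebraMap_mul_rat] at h1
        exact congrArg Subtype.val h1
      simpa [Algebra.smul_def] using h0
    · rw [List.map_ofFn]
      rw [show (χ ∘ fun i => rat f hI (e i.succ)) = fun i => rat f' rfl (e' i) from funext fun i => by
        show χ _ = _
        rw [map_rat f f' hI (rfl : I' = _) π σ χ hχ hf0 hf, ← he']
        simp [σ]]
      exact ih f' rfl hk' e' he'inj hw'

end Groth.Agent.DefSp24
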