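import Groth.Agent.DefSp24.Strict
import Groth.Agent.DefSp24.CompAlg

/-!
# The map of deformation spaces of a composable pair of regular immersions
-/

set_option autoImplicit false
set_option backward.isDefEq.respectTransparency false
set_option linter.style.haveILetI false
set_option maxHeartbeats 800000

universe u

open CategoryTheory CategoryTheory.Limits AlgebraicGeometry TopologicalSpace RingTheory.Sequence
open Groth.Agent.CAlgH.KoszulRegular Groth.Agent.BlowUpLib Groth.Agent.KRR28 Groth.Agent.CycLib28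

noncomputable section

namespace Groth.Agent.DefSp24

variable {X Y Z : Scheme.{u}}

theorem centre_comp (i : Y ⟶ X) (i' : Z ⟶ Y) :
    centre (i' ≫ i) = centre i' ≫ KRR.projSpaceMap 1 i := by
  unfold centre
  rw [Category.assoc, Category.assoc, sect_projSpaceMap]

variable (i : Y ⟶ X) [IsClosedImmersion i] (i' : Z ⟶ Y) [IsClosedImmersion i']

theorem comap_centre_comp :
    (centre (i' ≫ i)).ker.comap (KRR.projSpaceMap 1 i) = (centre i').ker := by
  haveI := isClosedImmersion_projSpaceMap i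
  haveI : IsClosedImmersion (centre i') := isClosedImmersion_centre i'
  haveI : IsClosedImmersion (centre (i' ≫ i)) := isClosedImmersion_centre _
  let σ := centre i'
  have hc : centre (i' ≫ i) = σ ≫ KRR.projSpaceMap 1 i := centre_comp i i'
  have h : IsPullback (𝟙 Z) σ (centre (i' ≫ i)) (KRR.projSpaceMap 1 i) := by
    refine ⟨⟨(Category.id_comp _).trans hc⟩, ⟨PullbackCone.IsLimit.mk _ (fun s => s.fst)
      (fun s => Category.comp_id _) (fun s => ?_) (fun s m h₁ _ => (Category.comp_id m).symm.trans h₁)⟩⟩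
    rw [← cancel_mono (KRR.projSpaceMap 1 i), Category.assoc, ← hc]
    exact s.condition
  rw [← CycLib28.ker_pullback_snd]
  conv_rhs => rw [show centre i' = σ from rfl, ← h.isoPullback_hom_snd, Scheme.Hom.ker_comp_of_isIso]

theorem flat_restrict {W W' : X.Opens} (hW : IsAffineOpen W) (hW' : IsAffineOpen W') (h : W' ≤ W) :
    (X.presheaf.map (homOfLE h).op).hom.Flat := by
  have := (𝟙 X : X ⟶ X).flat_appLE hW hW' h
  simpa [Scheme.Hom.appLE] using this

/-- The centre near a point over which `i` is cut out by a regular sequence. -/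
theorem centre_ideal_eq (U₀ : X.affineOpens) (rs : List Γ(X, U₀.1)) (hrs : IsWeaklyRegular Γ(X, U₀.1) rs)
    (hker : RingHom.ker (i.app U₀.1).hom = Ideal.ofList rs) (U : (KRR.PY 1 X).affineOpens)
    (hle : U.1 ≤ KRR.pr 1 X ⁻¹ᵁ U₀.1) (t : Γ(KRR.PY 1 X, U.1))
    (htI : (sectIdeal X 1).ideal U = Ideal.span {t}) :
    (KRR.projSpaceMap 1 i).ker.ideal U = Ideal.ofList (rs.map ((KRR.pr 1 X).appLE U₀.1 U.1 hle).hom) ∧
    (centre i).ker.ideal U = Ideal.ofList (rs.map ((KRR.pr 1 X).appLE U₀.1 U.1 hle).hom ++ [t]) ∧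
    IsWeaklyRegular Γ(KRR.PY 1 X, U.1) (rs.map ((KRR.pr 1 X).appLE U₀.1 U.1 hle).hom ++ [t]) := by
  haveI := isClosedImmersion_projSpaceMap i
  haveI : IsClosedImmersion (centre i) := isClosedImmersion_centre i
  let g := KRR.projSpaceMap 1 i
  let ρ := ((KRR.pr 1 X).appLE U₀.1 U.1 hle).hom
  have hflat : ρ.Flat := by
    haveI : Flat (KRR.pr 1 X) := Coherent.flat_toBase 1 X
    exact (KRR.pr 1 X).flat_appLE U₀.2 U.2 hle
  letI := ρ.toAlgebra
  haveI : Module.Flat Γ(X, U₀.1) Γ(KRR.PY 1 X, U.1) := hflat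
  have hgker : g.ker.ideal U = Ideal.ofList (rs.map ρ) := by
    rw [ker_projSpaceMap i, ProjLib.comap_ideal_eq _ _ U₀ U hle, Scheme.Hom.ker_apply, hker, Ideal.map_ofList]
  have hgU : IsAffineOpen (g ⁻¹ᵁ U.1) := U.2.preimage g
  have htY : (sectIdeal Y 1).ideal ⟨_, hgU⟩ = Ideal.span {(g.app U.1).hom t} := by
    rw [← comap_sectIdeal i 1, ProjLib.comap_ideal_eq _ g U ⟨_, hgU⟩ le_rfl, htI, Ideal.map_span,
      Set.image_singleton, ← Scheme.Hom.app_eq_appLE]
  have htreg := BlowUpLib.mem_nonZeroDivisors_of_eff (isEffCartier_sect Y 1) htY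
  refine ⟨hgker, ?_, ?_⟩
  · rw [show centre i = P1.sect Y 1 ≫ g from (sect_projSpaceMap i 1).symm]
    ext z
    rw [Ideal.ofList_append, Ideal.ofList_singleton, ← hgker, Scheme.Hom.ker_apply, sup_comm]
    constructor
    · intro hz
      have hz' : ((g.app U.1).hom z) ∈ (sectIdeal Y 1).ideal ⟨_, hgU⟩ := by
        rw [sectIdeal, Scheme.Hom.ker_apply, RingHom.mem_ker]
        rw [RingHom.mem_ker] at hz
        exact hz
      rw [htY] at hz'
      obtain ⟨r, hr⟩ := Ideal.mem_span_singleton'.1 hz'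
      obtain ⟨r', rfl⟩ := g.app_surjective U.1 U.2 r
      rw [Submodule.mem_sup]
      refine ⟨r' * t, Ideal.mem_span_singleton'.2 ⟨r', rfl⟩, z - r' * t, ?_, add_sub_cancel _ _⟩
      rw [Scheme.Hom.ker_apply, RingHom.mem_ker, map_sub, map_mul, sub_eq_zero, hr]
    · intro hz
      rw [Submodule.mem_sup] at hz
      obtain ⟨u, hu, v, hv, rfl⟩ := hz
      obtain ⟨r, rfl⟩ := Ideal.mem_span_singleton'.1 hu
      rw [Scheme.Hom.ker_apply, RingHom.mem_ker] at hv
      have ht0 : (g.app U.1).hom t ∈ (sectIdeal Y 1).ideal ⟨_, hgU⟩ := htY.ge (Ideal.mem_span_singleton_self _)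
      rw [sectIdeal, Scheme.Hom.ker_apply, RingHom.mem_ker] at ht0
      rw [RingHom.mem_ker]
      show ((P1.sect Y 1).app _).hom ((g.app U.1).hom (r * t + v)) = 0
      rw [map_add, hv, add_zero, map_mul, map_mul, ht0, mul_zero]
  · refine (isWeaklyRegular_append_iff _ _ _).2 ⟨IsWeaklyRegular.of_flat hrs, ?_⟩
    rw [isWeaklyRegular_singleton_iff]
    intro x y hxy
    obtain ⟨x, rfl⟩ := Submodule.Quotient.mk_surjective _ x
    obtain ⟨y, rfl⟩ := Submodule.Quotient.mk_surjective _ y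
    simp only [← Submodule.Quotient.mk_smul, Submodule.Quotient.eq, smul_eq_mul, Ideal.mul_top] at hxy ⊢
    rw [← hgker, Scheme.Hom.ker_apply, RingHom.mem_ker] at hxy ⊢
    simp only [map_sub, map_mul] at hxy ⊢
    exact sub_eq_zero.2 ((mul_cancel_left_mem_nonZeroDivisors htreg).1 (sub_eq_zero.1 hxy))

theorem ofList_ofFn' {R : Type u} [CommRing R] {n : ℕ} (f : Fin n → R) :
    Ideal.ofList (List.ofFn f) = Ideal.span (Set.range f) :=
  congrArg Ideal.span (Set.ext fun x => by simp)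

theorem ofFn_get_map {R R' : Type u} (rs : List R) (ρ : R → R') :
    List.ofFn (fun j => ρ (rs.get j)) = rs.map ρ := by
  show List.ofFn (ρ ∘ rs.get) = _
  rw [← List.map_ofFn, List.ofFn_get]

/-- Adapted coordinates at a point of `P¹_Y`. -/
theorem exists_coords_comp {c c' : ℕ} (hi : RegImm.IsRegularImmersionOfCodim RegImm.Kind.regular c i)
    (hi' : RegImm.IsRegularImmersionOfCodim RegImm.Kind.regular c' i') (z : KRR.PY 1 Y) :
    ∃ (U : (KRR.PY 1 X).affineOpens) (m : ℕ) (a : Fin c → Γ(KRR.PY 1 X, U.1))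
      (G : Fin (m + 1) → Γ(KRR.PY 1 X, U.1)),
      KRR.projSpaceMap 1 i z ∈ U.1 ∧
      (KRR.projSpaceMap 1 i).ker.ideal U = Ideal.span (Set.range a) ∧
      (centre (i' ≫ i)).ker.ideal U = Ideal.span (Set.range G ∪ Set.range a) ∧
      IsWeaklyRegular Γ(KRR.PY 1 X, U.1) (List.ofFn a ++ List.ofFn G) := by
  classical
  haveI := isClosedImmersion_projSpaceMap i
  haveI : IsClosedImmersion (centre i') := isClosedImmersion_centre i'
  haveI : IsClosedImmersion (centre (i' ≫ i)) := isClosedImmersion_centre _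
  let g := KRR.projSpaceMap 1 i
  obtain ⟨U₀, hy₀, -, rs, hlen, hrs, hkerf⟩ := hi.2 (KRR.pr 1 Y z)
  subst hlen
  have hprg : g ≫ KRR.pr 1 X = KRR.pr 1 Y ≫ i := pullback.lift_snd _ _ _
  have hpz : KRR.pr 1 X (g z) = i (KRR.pr 1 Y z) := by
    rw [← Scheme.Hom.comp_apply, hprg, Scheme.Hom.comp_apply]
  by_cases hz : g z ∈ (centre (i' ≫ i)).ker.support
  · rw [← SetLike.mem_coe, Scheme.Hom.support_ker] at hz
    obtain ⟨w, hw⟩ := (centre (i' ≫ i)).isClosedEmbedding.isClosed_range.closure_eq.le hz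
    rw [centre_comp, Scheme.Hom.comp_apply] at hw
    replace hw : centre i' w = z := g.isClosedEmbedding.injective hw
    have hy : KRR.pr 1 Y z = i' w := by
      rw [← hw, ← Scheme.Hom.comp_apply, show centre i' ≫ KRR.pr 1 Y = i' by
        unfold centre
        rw [Category.assoc, show P1.sect Y 1 ≫ KRR.pr 1 Y = 𝟙 Y from P1Lib24.sect_toBase _ _, Category.comp_id]]
    obtain ⟨U₁, hw₁, -, rs', -, hrs', hkerf'⟩ := hi'.2 w
    obtain ⟨V, hV, hVU⟩ := i.isClosedEmbedding.isInducing.isOpen_iff.1 U₁.1.isOpen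
    have hyV : i (KRR.pr 1 Y z) ∈ V := by
      show KRR.pr 1 Y z ∈ (⇑i) ⁻¹' V
      rw [hVU, hy]
      exact hw₁
    obtain ⟨_, ⟨U₂, hU₂, rfl⟩, hy₂, hle₂⟩ := X.isBasis_affineOpens.exists_subset_of_mem_open
      (show i (KRR.pr 1 Y z) ∈ (U₀.1 : Set X) ∩ V from ⟨hy₀, hyV⟩) (U₀.1.isOpen.inter hV)
    have h20 : U₂ ≤ U₀.1 := fun x hx => (hle₂ hx).1
    have h21 : i ⁻¹ᵁ U₂ ≤ U₁.1 := fun x hx => (hVU.le : (⇑i) ⁻¹' V ⊆ _) (hle₂ hx).2
    have hiU₂ : IsAffineOpen (i ⁻¹ᵁ U₂) := hU₂.preimage i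
    let r₀ := (X.presheaf.map (homOfLE h20).op).hom
    let r₁ := (Y.presheaf.map (homOfLE h21).op).hom
    have hk2 : RingHom.ker (i.app U₂).hom = Ideal.ofList (rs.map r₀) := by
      rw [← Scheme.Hom.ker_apply i ⟨U₂, hU₂⟩, ← i.ker.map_ideal (U := ⟨U₂, hU₂⟩) (V := U₀) h20,
        Scheme.Hom.ker_apply, hkerf, Ideal.map_ofList]
      rfl
    have hk2' : RingHom.ker (i'.app (i ⁻¹ᵁ U₂)).hom = Ideal.ofList (rs'.map r₁) := by
      rw [← Scheme.Hom.ker_apply i' ⟨_, hiU₂⟩, ← i'.ker.map_ideal (U := ⟨_, hiU₂⟩) (V := U₁) h21,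
        Scheme.Hom.ker_apply, hkerf', Ideal.map_ofList]
      rfl
    have hw2 : IsWeaklyRegular Γ(X, U₂) (rs.map r₀) := by
      letI := r₀.toAlgebra
      haveI : Module.Flat Γ(X, U₀.1) Γ(X, U₂) := flat_restrict U₀.2 hU₂ h20
      exact IsWeaklyRegular.of_flat hrs.toIsWeaklyRegular
    have hw2' : IsWeaklyRegular Γ(Y, i ⁻¹ᵁ U₂) (rs'.map r₁) := by
      letI := r₁.toAlgebra
      haveI : Module.Flat Γ(Y, U₁.1) Γ(Y, i ⁻¹ᵁ U₂) := flat_restrict U₁.2 hiU₂ h21
      exact IsWeaklyRegular.of_flat hrs'.toIsWeaklyRegular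
    have hsurj : Function.Surjective (i.app U₂).hom := i.app_surjective U₂ hU₂
    let L : List Γ(X, U₂) := (rs'.map r₁).map (Function.surjInv hsurj)
    have hL : L.map (i.app U₂).hom = rs'.map r₁ := by
      simp only [L, List.map_map]
      exact List.map_congr_left fun x _ => Function.surjInv_eq hsurj _
    have hwall : IsWeaklyRegular Γ(X, U₂) (rs.map r₀ ++ L) :=
      isWeaklyRegular_append_of_map hsurj hk2 hw2 (hL ▸ hw2')
    have hkall : RingHom.ker ((i' ≫ i).app U₂).hom = Ideal.ofList (rs.map r₀ ++ L) := by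
      rw [Scheme.Hom.comp_app, CommRingCat.hom_comp, ← RingHom.comap_ker, hk2', ← hL, ← Ideal.map_ofList,
        Ideal.comap_map_of_surjective _ hsurj, ← RingHom.ker_eq_comap_bot, hk2, Ideal.ofList_append, sup_comm]
    obtain ⟨U, hzU, hle, t, -, htI⟩ := ModPairLib.exists_local (isEffCartier_sect X 1) (g z)
      (KRR.pr 1 X ⁻¹ᵁ U₂) (show KRR.pr 1 X (g z) ∈ U₂ by rw [hpz]; exact hy₂)
    obtain ⟨-, hI, hwt⟩ := centre_ideal_eq (i' ≫ i) ⟨U₂, hU₂⟩ _ hwall hkall U hle t htI
    obtain ⟨hgker, -, -⟩ := centre_ideal_eq i ⟨U₂, hU₂⟩ _ hw2 hk2 U hle t htI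
    let ρ := ((KRR.pr 1 X).appLE U₂ U.1 hle).hom
    let a : Fin rs.length → Γ(KRR.PY 1 X, U.1) := fun j => ρ (r₀ (rs.get j))
    let G : Fin (L.length + 1) → Γ(KRR.PY 1 X, U.1) := Fin.snoc (fun j => ρ (L.get j)) t
    have ha : List.ofFn a = (rs.map r₀).map ρ := by
      rw [List.map_map]
      exact ofFn_get_map rs (ρ ∘ r₀)
    have hG : List.ofFn G = L.map ρ ++ [t] := by
      rw [List.ofFn_succ']
      simp only [G, Fin.snoc_castSucc, Fin.snoc_last, List.concat_eq_append, ofFn_get_map]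
    have happ : List.ofFn a ++ List.ofFn G = (rs.map r₀ ++ L).map ρ ++ [t] := by
      rw [ha, hG, List.map_append, List.append_assoc]
    refine ⟨U, L.length, a, G, hzU, ?_, ?_, happ ▸ hwt⟩
    · rw [← ofList_ofFn', ha]
      exact hgker
    · rw [hI, ← happ, Ideal.ofList_append, ofList_ofFn', ofList_ofFn', Ideal.span_union, sup_comm]
  · obtain ⟨_, ⟨U, hU, rfl⟩, hzU, hle⟩ := (KRR.PY 1 X).isBasis_affineOpens.exists_subset_of_mem_open
      (show g z ∈ (↑(KRR.pr 1 X ⁻¹ᵁ U₀.1) : Set _) ∩ ((centre (i' ≫ i)).ker.support : Set _)ᶜ from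
        ⟨show KRR.pr 1 X (g z) ∈ U₀.1 by rw [hpz]; exact hy₀, hz⟩) ((KRR.pr 1 X ⁻¹ᵁ U₀.1).isOpen.inter
          (centre (i' ≫ i)).ker.support.isClosed.isOpen_compl)
    have hle0 : U ≤ KRR.pr 1 X ⁻¹ᵁ U₀.1 := fun x hx => (hle hx).1
    let ρ := ((KRR.pr 1 X).appLE U₀.1 U hle0).hom
    let a : Fin rs.length → Γ(KRR.PY 1 X, U) := fun j => ρ (rs.get j)
    have ha : List.ofFn a = rs.map ρ := ofFn_get_map rs ρ
    refine ⟨⟨U, hU⟩, 0, a, fun _ => 1, hzU, ?_, ?_, ?_⟩
    · rw [ker_projSpaceMap i, ProjLib.comap_ideal_eq _ _ U₀ ⟨U, hU⟩ hle0, Scheme.Hom.ker_apply, hkerf,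
        Ideal.map_ofList, ← ofList_ofFn', ha]
    · rw [BlowUpCoh.ideal_eq_top_of_disjoint _ (fun x hx => (hle hx).2)]
      exact ((Ideal.eq_top_iff_one (Ideal.span (Set.range (fun _ : Fin 1 => (1 : Γ(KRR.PY 1 X, U))) ∪ Set.range a))).2
        (Ideal.subset_span (Or.inl ⟨0, rfl⟩))).symm
    · refine (isWeaklyRegular_append_iff _ _ _).2 ⟨?_, ?_⟩
      · rw [ha]
        letI := ρ.toAlgebra
        haveI : Module.Flat Γ(X, U₀.1) Γ(KRR.PY 1 X, U) := by
          haveI : Flat (KRR.pr 1 X) := Coherent.flat_toBase 1 X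
          exact (KRR.pr 1 X).flat_appLE U₀.2 hU hle0
        exact IsWeaklyRegular.of_flat hrs.toIsWeaklyRegular
      · rw [List.ofFn_succ, List.ofFn_zero, isWeaklyRegular_singleton_iff]
        exact IsSMulRegular.one _

theorem locus_comp {P P' W : Scheme.{u}} (J : P.IdealSheafData) (g : P' ⟶ P) (h : W ⟶ P') (U : P.affineOpens)
    (hU : IsAffineOpen (g ⁻¹ᵁ U.1)) (a : Γ(P, U.1)) :
    locus J (h ≫ g) U a = locus (J.comap g) h ⟨_, hU⟩ ((g.app U.1).hom a) := by
  ext x
  simp only [SetLike.mem_coe, mem_locus]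
  refine exists_congr fun V => and_congr_right fun _ => ⟨fun ⟨e, he⟩ => ⟨e, ?_⟩, fun ⟨e, he⟩ => ⟨e, ?_⟩⟩
  · rw [← Scheme.IdealSheafData.comap_comp, he, Scheme.Hom.app_eq_appLE, ← CommRingCat.comp_apply,
      Scheme.Hom.appLE_comp_appLE]
  · rw [Scheme.IdealSheafData.comap_comp, he, Scheme.Hom.app_eq_appLE, ← CommRingCat.comp_apply,
      Scheme.Hom.appLE_comp_appLE]

/-- The map of deformation spaces is a closed regular immersion. -/
theorem isRegularImmersion_map {c c' : ℕ} (hi : RegImm.IsRegularImmersionOfCodim RegImm.Kind.regular c i)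
    (hi' : RegImm.IsRegularImmersionOfCodim RegImm.Kind.regular c' i')
    {M M' : Scheme.{u}} (b' : M' ⟶ KRR.PY 1 Y) (hb' : BlowUp.IsBlowUp b' (centre i').ker)
    (b : M ⟶ KRR.PY 1 X) (hb : BlowUp.IsBlowUp b (centre (i' ≫ i)).ker)
    (j : M' ⟶ M) (hj : j ≫ b = b' ≫ KRR.projSpaceMap 1 i) :
    IsClosedImmersion j ∧ RegImm.IsRegularImmersion RegImm.Kind.regular j := by
  classical
  haveI := isClosedImmersion_projSpaceMap i
  haveI : IsClosedImmersion (centre (i' ≫ i)) := isClosedImmersion_centre _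
  let g := KRR.projSpaceMap 1 i
  let I := (centre (i' ≫ i)).ker
  have hI' : I.comap g = (centre i').ker := comap_centre_comp i i'
  have hfin : BlowUp.IsFiniteTypeIdeal I := BlowUpCoh.isFiniteType_of_local fun x => by
    by_cases hx : x ∈ I.support
    · have hx' : x ∈ (I.support : Set _) := hx
      simp only [I, Scheme.Hom.support_ker] at hx'
      obtain ⟨w, rfl⟩ := (centre (i' ≫ i)).isClosedEmbedding.isClosed_range.closure_eq.le hx'
      obtain ⟨U, m, a, G, hU, -, hIU, -⟩ := exists_coords_comp i i' hi hi' (centre i' w)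
      rw [← Scheme.Hom.comp_apply, ← centre_comp] at hU
      exact ⟨U, hU, by rw [hIU]; exact Submodule.fg_span ((Set.finite_range G).union (Set.finite_range a))⟩
    · obtain ⟨_, ⟨U, hU, rfl⟩, hxU, hle⟩ := (KRR.PY 1 X).isBasis_affineOpens.exists_subset_of_mem_open
        (show x ∈ (I.support : Set _)ᶜ from hx) I.support.isClosed.isOpen_compl
      exact ⟨⟨U, hU⟩, hxU, by
        rw [BlowUpCoh.ideal_eq_top_of_disjoint _ (fun x hx => hle hx)]
        exact Ideal.fg_top _⟩
  have hfin' : BlowUp.IsFiniteTypeIdeal (centre i').ker := BlowUpCoh.isFiniteType_of_local fun z => by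
    obtain ⟨U, m, a, G, hU, -, hIU, -⟩ := exists_coords_comp i i' hi hi' z
    have hfg : (I.ideal U).FG := by
      rw [hIU]; exact Submodule.fg_span ((Set.finite_range G).union (Set.finite_range a))
    refine ⟨⟨_, U.2.preimage g⟩, hU, ?_⟩
    rw [← hI', ProjLib.comap_ideal_eq I g U ⟨_, U.2.preimage g⟩ le_rfl]
    exact hfg.map _
  haveI : IsProper b := BlowUpLib.isProper_of_isBlowUp hb hfin
  haveI : IsProper b' := BlowUpLib.isProper_of_isBlowUp hb' hfin'
  haveI : IsProper (j ≫ b) := by rw [hj]; infer_instance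
  haveI : IsProper j := IsProper.of_comp j b
  have hbg : BlowUp.IsEffCartierIdeal (I.comap (j ≫ b)) := by
    rw [hj, Scheme.IdealSheafData.comap_comp, hI']
    exact hb'.1
  have key : ∀ x : M', ∃ (V : M.affineOpens) (T : List Γ(M, V.1)), j x ∈ V.1 ∧ IsClosedImmersion (j ∣_ V.1) ∧
      IsWeaklyRegular Γ(M, V.1) T ∧ RingHom.ker (j.app V.1).hom = Ideal.ofList T := by
    intro x
    obtain ⟨U, m, a, G, hzU, hker, hIU, hwall⟩ := exists_coords_comp i i' hi hi' (b' x)
    let A := Γ(KRR.PY 1 X, U.1)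
    have hgU : IsAffineOpen (g ⁻¹ᵁ U.1) := U.2.preimage g
    let φ : A →+* Γ(KRR.PY 1 Y, g ⁻¹ᵁ U.1) := (g.app U.1).hom
    have hφs : Function.Surjective φ := g.app_surjective U.1 U.2
    have hkφ : RingHom.ker φ = Ideal.span (Set.range a) := by rw [← hker, Scheme.Hom.ker_apply]
    have hφa : ∀ l, φ (a l) = 0 := fun l => RingHom.mem_ker.1 (hkφ.ge (Ideal.subset_span ⟨l, rfl⟩))
    let I' := (I.comap g).ideal ⟨_, hgU⟩
    have hI'G : I' = Ideal.span (Set.range (φ ∘ G)) := by
      show (I.comap g).ideal ⟨_, hgU⟩ = _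
      rw [ProjLib.comap_ideal_eq I g U ⟨_, hgU⟩ le_rfl, show I.ideal U = _ from hIU, Ideal.map_span,
        ← Scheme.Hom.app_eq_appLE, Set.image_union, Ideal.span_union, ← Set.range_comp, ← Set.range_comp]
      refine sup_eq_left.2 (Ideal.span_le.2 ?_)
      rintro _ ⟨l, rfl⟩
      rw [SetLike.mem_coe, show ((g.app U.1).hom ∘ a) l = 0 from hφa l]
      exact zero_mem _
    have heff' : BlowUp.IsEffCartierIdeal ((I.comap g).comap b') := by rw [hI']; exact hb'.1
    obtain ⟨s, ⟨k, rfl⟩, hxk⟩ := exists_mem_locus (I := I.comap g) b' heff' ⟨_, hgU⟩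
      (show x ∈ b' ⁻¹ᵁ (g ⁻¹ᵁ U.1) from hzU) (Set.range (φ ∘ G)) hI'G.symm
    let G' : Fin m → A := G ∘ k.succAbove
    let f : Fin (m + c + 1) → A := Fin.cons (G k) (Fin.append G' a)
    let f' : Fin (m + 1) → Γ(KRR.PY 1 Y, g ⁻¹ᵁ U.1) := Fin.cons (φ (G k)) (φ ∘ G')
    have hrk : ({G k} : Set A) ∪ Set.range G' = Set.range G := by
      ext v
      constructor
      · rintro (rfl | ⟨l, rfl⟩)
        exacts [⟨k, rfl⟩, ⟨_, rfl⟩]
      · rintro ⟨l, rfl⟩
        rcases Fin.eq_self_or_eq_succAbove k l with rfl | ⟨l, rfl⟩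
        exacts [Or.inl rfl, Or.inr ⟨l, rfl⟩]
    have hI : I.ideal U = Ideal.span (Set.range f) := by
      rw [Fin.range_cons, FlatMorKoszul.range_append, Set.insert_eq, ← Set.union_assoc, hrk]
      exact hIU
    have hI'f : I' = Ideal.span (Set.range f') := by
      rw [Fin.range_cons, Set.insert_eq, Set.range_comp, ← Set.image_singleton (f := φ) (a := G k),
        ← Set.image_union, hrk, ← Set.range_comp]
      exact hI'G
    have hwa : IsWeaklyRegular A (List.ofFn a) := ((isWeaklyRegular_append_iff _ _ _).1 hwall).1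
    have hk' : KReg f' := by
      have h1 := isWeaklyRegular_map_of_append hφs (by rw [hkφ, ofList_ofFn']) hwall
      rw [List.map_ofFn] at h1
      have h2 := kreg_equivFin ((finSuccEquiv m).trans (finSuccEquiv' k).symm)
        (CAlgH.KoszulH1.kreg_of_isWeaklyRegular h1)
      convert h2 using 1
      funext l
      refine Fin.cases ?_ (fun l => ?_) l <;> simp [f', G']
    have hk : KReg f := by
      let l : Fin (m + 1) → A := Fin.cons (G k) G'
      have hl : KReg fun j => φ (l j) := by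
        convert hk' using 1
        funext j
        refine Fin.cases ?_ (fun j => ?_) j <;> simp [f', l]
      have h := kreg_equivFin (finCongr (by omega : m + c + 1 = m + 1 + c))
        (FlatMorKoszul.kreg_append hφs hkφ (CAlgH.KoszulH1.kreg_of_isWeaklyRegular hwa) hl)
      convert h using 1
      funext j
      simp [f, l, Fin.append_cons]
    let σ : Fin (m + c) → Option (Fin m) := Fin.addCases some (fun _ => none)
    have hf : ∀ j, φ (f j.succ) = (σ j).elim 0 (fun l => f' l.succ) := by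
      refine Fin.addCases (fun l => ?_) (fun l => ?_)
      · simp [f, σ, f', G']
      · simp [f, σ, hφa]
    have hset : {j | σ j = none} = Set.range (Fin.natAdd m : Fin c → Fin (m + c)) := by
      ext j
      refine Fin.addCases (fun l => ?_) (fun l => ?_) j
      · simp only [Set.mem_setOf_eq, σ, Fin.addCases_left, Set.mem_range, reduceCtorEq, false_iff, not_exists]
        intro y hy
        have := congrArg Fin.val hy
        simp at this
        omega
      · simp [σ]
    have hkle : RingHom.ker φ ≤ Ideal.span ((fun j => f j.succ) '' {j | σ j = none}) := by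
      rw [hkφ, hset, ← Set.range_comp]
      refine Ideal.span_mono ?_
      rintro _ ⟨l, rfl⟩
      exact ⟨l, by simp [f]⟩
    have ha0 : f 0 ∈ I.ideal U := hI.ge (Ideal.subset_span ⟨0, rfl⟩)
    have ha0' : f' 0 ∈ (centre i').ker.ideal ⟨_, hgU⟩ := by
      rw [← hI']; exact hI'f.ge (Ideal.subset_span ⟨0, rfl⟩)
    obtain ⟨hV, η, hη⟩ := exists_chart_equiv hb U ha0
    obtain ⟨hV', η', hη'⟩ := exists_chart_equiv (show BlowUp.IsBlowUp b' (I.comap g) from hI' ▸ hb') ⟨_, hgU⟩
      (show f' 0 ∈ (I.comap g).ideal ⟨_, hgU⟩ from hI'f.ge (Ideal.subset_span ⟨0, rfl⟩))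
    have hpre : j ⁻¹ᵁ locus I b U (f 0) = locus (I.comap g) b' ⟨_, hgU⟩ (f' 0) := by
      rw [preimage_locus ha0 b hb.1 j hbg, hj]
      exact locus_comp I g b' U hgU (f 0)
    let χ := (j.appLE (locus I b U (f 0)) (locus (I.comap g) b' ⟨_, hgU⟩ (f' 0)) hpre.ge).hom
    let ψ := (η'.symm.toRingHom.comp χ).comp η.toRingHom
    have hψ : ∀ y, ψ (algebraMap _ _ y) = algebraMap _ _ (φ y) := fun y => by
      show η'.symm (χ (η (algebraMap _ _ y))) = _
      refine η'.injective ?_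
      rw [RingEquiv.apply_symm_apply, hη, hη']
      show ((b.appLE _ _ _) ≫ (j.appLE _ _ _)).hom y = ((g.app U.1) ≫ (b'.appLE _ _ _)).hom y
      rw [Scheme.Hom.appLE_comp_appLE, Scheme.Hom.app_eq_appLE, Scheme.Hom.appLE_comp_appLE]
      simp only [hj, g]
    obtain ⟨hψs, hψk⟩ := surjective_ker_chartHom f f' hI hI'f φ σ (Fin.castAdd c)
      (fun l => by simp [σ]) (fun j l => by
        refine Fin.addCases (fun j' => ?_) (fun j' => ?_) j
        · simp only [σ, Fin.addCases_left, Option.some.injEq]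
          exact fun h => by rw [h]
        · simp [σ]) hφs rfl hf hkle hk' ψ hψ
    have hreg := isWeaklyRegular_rat_sub f hI hk (Fin.natAdd m) (Fin.natAdd_injective _ _)
      (by simpa [f] using hwa)
    refine ⟨⟨_, hV⟩, (List.ofFn fun l => rat f hI (Fin.natAdd m l)).map η, hpre.ge hxk, ?_,
      (η.toAddEquiv.isWeaklyRegular_congr (bs := (List.ofFn fun l => rat f hI (Fin.natAdd m l)).map η)
        (List.forall₂_map_right_iff.2 (List.forall₂_same.2 fun x _ y => map_mul η x y))).1 hreg, ?_⟩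
    · have hsurj : Function.Surjective χ := fun q => by
        obtain ⟨p, hp⟩ := hψs (η'.symm q)
        exact ⟨η p, η'.symm.injective hp⟩
      have haff : IsAffineOpen (j ⁻¹ᵁ locus I b U (f 0)) := hpre ▸ hV'
      haveI : IsAffine ↑(locus I b U (f 0)) := hV
      haveI : IsAffine ↑(j ⁻¹ᵁ locus I b U (f 0)) := haff
      refine IsClosedImmersion.of_surjective_of_isAffine _ ?_
      have happ : Function.Surjective (j.app (locus I b U (f 0))).hom := fun q => by
        obtain ⟨p, hp⟩ := hsurj ((M'.presheaf.map (homOfLE hpre.ge).op).hom q)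
        haveI : IsIso (homOfLE hpre.ge : _ ⟶ j ⁻¹ᵁ locus I b U (f 0)) := ⟨homOfLE hpre.le, rfl, rfl⟩
        exact ⟨p, (ConcreteCategory.bijective_of_isIso (M'.presheaf.map (homOfLE hpre.ge).op)).1 hp⟩
      have hO : ∀ O, O = locus I b U (f 0) → Function.Surjective (j.app O).hom := fun O hO => by
        subst hO
        exact happ
      rw [morphismRestrict_appTop]
      intro q
      obtain ⟨p, hp⟩ := (ConcreteCategory.bijective_of_isIso (M'.presheaf.map
        (eqToHom (image_morphismRestrict_preimage j (locus I b U (f 0)) ⊤)).op)).2 q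
      obtain ⟨y, rfl⟩ := hO _ (Scheme.Opens.ι_image_top _) p
      exact ⟨y, hp⟩
    · rw [show Ideal.ofList ((List.ofFn fun l => rat f hI (Fin.natAdd m l)).map η) =
        (Ideal.ofList (List.ofFn fun l => rat f hI (Fin.natAdd m l))).map η.toRingHom from
        (Ideal.map_ofList η.toRingHom _).symm, ofList_ofFn']
      rw [hset, ← Set.range_comp] at hψk
      rw [show (fun l => rat f hI (Fin.natAdd m l)) = rat f hI ∘ Fin.natAdd m from rfl, ← hψk]
      have e1 : RingHom.ker (j.app (locus I b U (f 0))).hom = RingHom.ker χ := by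
        show _ = RingHom.ker ((M'.presheaf.map _).hom.comp (j.app _).hom)
        rw [RingHom.ker_comp_of_injective]
        haveI : IsIso (homOfLE hpre.ge : _ ⟶ j ⁻¹ᵁ locus I b U (f 0)) := ⟨homOfLE hpre.le, rfl, rfl⟩
        exact (ConcreteCategory.bijective_of_isIso _).1
      refine e1.trans ?_
      ext z
      obtain ⟨z, rfl⟩ := η.surjective z
      constructor
      · intro hz
        refine Ideal.mem_map_of_mem η.toRingHom (show z ∈ RingHom.ker ψ from ?_)
        show η'.symm (χ (η z)) = 0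
        rw [RingHom.mem_ker.1 hz, map_zero]
      · intro hz
        obtain ⟨y, hy, hye⟩ := (Ideal.mem_map_iff_of_surjective η.toRingHom η.surjective).1 hz
        rw [← hye]
        exact η'.symm.injective ((RingHom.mem_ker.1 hy).trans (map_zero _).symm)
  choose V T hxV hcl hreg hkT using key
  haveI hjc : IsClosedImmersion j := by
    refine IsZariskiLocalAtTarget.of_iSup_eq_top (P := @IsClosedImmersion)
      (fun o : Option M' => o.elim (⟨(Set.range j)ᶜ, j.isClosedMap.isClosed_range.isOpen_compl⟩ : M.Opens)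
        (fun x => (V x).1)) ?_ ?_
    · refine top_le_iff.1 fun y _ => Opens.mem_iSup.2 ?_
      by_cases hy : y ∈ Set.range j
      · obtain ⟨x, rfl⟩ := hy
        exact ⟨some x, hxV x⟩
      · exact ⟨none, hy⟩
    · rintro (_ | x)
      · show IsClosedImmersion (j ∣_ (⟨(Set.range j)ᶜ, j.isClosedMap.isClosed_range.isOpen_compl⟩ : M.Opens))
        haveI : IsEmpty ↑(j ⁻¹ᵁ (⟨(Set.range j)ᶜ, j.isClosedMap.isClosed_range.isOpen_compl⟩ : M.Opens)) :=
          ⟨fun p => p.2 ⟨p.1, rfl⟩⟩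
        infer_instance
      · exact hcl x
  refine ⟨hjc, inferInstance, fun x => ⟨V x, hxV x, hcl x, T x, ⟨hreg x, ?_⟩, hkT x⟩⟩
  intro h
  rw [smul_eq_mul, Ideal.mul_top, ← hkT x] at h
  haveI : Nonempty ↥(j ⁻¹ᵁ (V x).1) := ⟨⟨x, hxV x⟩⟩
  exact RingHom.ker_ne_top (j.app (V x).1).hom h.symm

end Groth.Agent.DefSp24
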