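import Groth.Agent.DefSp24.StrictAlg
import Groth.Prelude.Def_RegImm
import Groth.Agent.CAlgH.RegImmStalk

/-!
# The strict transform in the deformation to the normal cone is a regular immersion
-/

set_option autoImplicit false
set_option backward.isDefEq.respectTransparency false
set_option linter.style.haveILetI false
set_option maxHeartbeats 800000

universe u

open CategoryTheory CategoryTheory.Limits AlgebraicGeometry TopologicalSpace RingTheory.Sequence
open Groth.Agent.CAlgH.KoszulRegular Groth.Agent.BlowUpLib Groth.Agent.KRR28 Groth.Agent.CycLib28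

noncomputable section

namespace Groth.Agent.DefSp24

/-- A section at infinity is an effective Cartier divisor, over any base. -/
theorem isEffCartier_sect (Y : Scheme.{u}) (i : Fin (1 + 1)) : BlowUp.IsEffCartierIdeal (sectIdeal Y i) := by
  intro q
  obtain ⟨k, hk⟩ := exists_mem_p1Open Y q
  obtain ⟨W, hW, hqW, hle⟩ := exists_isAffineOpen_mem_and_subset (x := q) (U := p1Open Y k) hk
  obtain ⟨c, hc, hI, -, -⟩ := ideal_sectIdeal Y i k ⟨W, hW⟩ hle
  exact ⟨⟨W, hW⟩, hqW, c, isLeftRegular_iff_mem_nonZeroDivisorsLeft.1 hc |> fun h => by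
    rwa [← nonZeroDivisorsLeft_eq_nonZeroDivisors], hI⟩

variable {X Y : Scheme.{u}} (i : Y ⟶ X) [IsClosedImmersion i]

theorem comap_centre' : (centre i).ker.comap (KRR.projSpaceMap 1 i) = sectIdeal Y 1 := by
  haveI : IsClosedImmersion (centre i) := by unfold centre; infer_instance
  haveI := isClosedImmersion_projSpaceMap i
  let σ := P1.sect Y 1
  have hc : centre i = σ ≫ KRR.projSpaceMap 1 i := (sect_projSpaceMap i 1).symm
  have h : IsPullback (𝟙 Y) σ (centre i) (KRR.projSpaceMap 1 i) := by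
    refine ⟨⟨(Category.id_comp _).trans hc⟩, ⟨PullbackCone.IsLimit.mk _ (fun s => s.fst)
      (fun s => Category.comp_id _) (fun s => ?_) (fun s m h₁ _ => (Category.comp_id m).symm.trans h₁)⟩⟩
    rw [← cancel_mono (KRR.projSpaceMap 1 i), Category.assoc, ← hc]
    exact s.condition
  rw [← CycLib28.ker_pullback_snd, sectIdeal]
  conv_rhs => rw [show P1.sect Y 1 = σ from rfl, ← h.isoPullback_hom_snd, Scheme.Hom.ker_comp_of_isIso]

/-- Coordinates of the centre at a point of `P¹_Y`. -/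
theorem exists_coords' {d : ℕ} (hi : RegImm.IsRegularImmersionOfCodim RegImm.Kind.regular d i)
    (z : KRR.PY 1 Y) :
    ∃ (U : (KRR.PY 1 X).affineOpens) (F : Fin (d + 1) → Γ(KRR.PY 1 X, U.1)),
      KRR.projSpaceMap 1 i z ∈ U.1 ∧
      (centre i).ker.ideal U = Ideal.span (Set.range F) ∧ KReg F ∧
      (KRR.projSpaceMap 1 i).ker.ideal U = Ideal.span (Set.range fun j : Fin d => F j.succ) ∧
      IsWeaklyRegular Γ(KRR.PY 1 X, U.1) ((List.ofFn fun j : Fin d => F j.succ) ++ [F 0]) := by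
  haveI := isClosedImmersion_projSpaceMap i
  let g := KRR.projSpaceMap 1 i
  obtain ⟨U₀, hz₀, -, rs, hlen, hrs, hkerf⟩ := hi.2 (KRR.pr 1 Y z)
  subst hlen
  have hzU : KRR.pr 1 X (g z) ∈ U₀.1 := by
    rw [← Scheme.Hom.comp_apply, show g ≫ KRR.pr 1 X = KRR.pr 1 Y ≫ i from pullback.lift_snd _ _ _]
    exact hz₀
  obtain ⟨U, hzU', hle, t, ht, htI⟩ := ModPairLib.exists_local (isEffCartier_sect X 1) (g z)
    (KRR.pr 1 X ⁻¹ᵁ U₀.1) hzU
  let ρ := ((KRR.pr 1 X).appLE U₀.1 U.1 hle).hom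
  have hflat : ρ.Flat := by
    haveI : Flat (KRR.pr 1 X) := Coherent.flat_toBase 1 X
    exact (KRR.pr 1 X).flat_appLE U₀.2 U.2 hle
  letI := ρ.toAlgebra
  haveI : Module.Flat Γ(X, U₀.1) Γ(KRR.PY 1 X, U.1) := hflat
  have hgker : g.ker.ideal U = Ideal.ofList (rs.map ρ) := by
    rw [ker_projSpaceMap i, ProjLib.comap_ideal_eq _ _ U₀ U hle, Scheme.Hom.ker_apply, hkerf, Ideal.map_ofList]
  let a : Fin rs.length → Γ(KRR.PY 1 X, U.1) := fun j => ρ (rs.get j)
  have hlist : List.ofFn a = rs.map ρ := by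
    show List.ofFn (ρ ∘ rs.get) = _
    rw [← List.map_ofFn, List.ofFn_get]
  have hspan : Ideal.span (Set.range a) = Ideal.ofList (rs.map ρ) := by
    rw [← hlist]
    exact congrArg Ideal.span (Set.ext fun r => (List.mem_ofFn (f := a) (a := r)).symm)
  have hgU : IsAffineOpen (g ⁻¹ᵁ U.1) := U.2.preimage g
  have htY : (sectIdeal Y 1).ideal ⟨_, hgU⟩ = Ideal.span {(g.app U.1).hom t} := by
    rw [← comap_sectIdeal i 1, ProjLib.comap_ideal_eq _ g U ⟨_, hgU⟩ le_rfl, htI, Ideal.map_span,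
      Set.image_singleton, ← Scheme.Hom.app_eq_appLE]
  have htreg := BlowUpLib.mem_nonZeroDivisors_of_eff (isEffCartier_sect Y 1) htY
  have hweak : IsWeaklyRegular Γ(KRR.PY 1 X, U.1) (List.ofFn (Fin.snoc a t : Fin (rs.length + 1) → _)) := by
    rw [List.ofFn_succ']
    simp only [Fin.snoc_castSucc, Fin.snoc_last, List.concat_eq_append, hlist]
    refine (isWeaklyRegular_append_iff _ _ _).2 ⟨IsWeaklyRegular.of_flat (IsRegular.toIsWeaklyRegular hrs), ?_⟩
    rw [isWeaklyRegular_singleton_iff]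
    intro x y hxy
    obtain ⟨x, rfl⟩ := Submodule.Quotient.mk_surjective _ x
    obtain ⟨y, rfl⟩ := Submodule.Quotient.mk_surjective _ y
    simp only [← Submodule.Quotient.mk_smul, Submodule.Quotient.eq, smul_eq_mul, Ideal.mul_top, ← hgker,
      Scheme.Hom.ker_apply, RingHom.mem_ker, map_sub, map_mul] at hxy ⊢
    exact sub_eq_zero.2 ((mul_cancel_left_mem_nonZeroDivisors htreg).1 (sub_eq_zero.1 hxy))
  refine ⟨U, Fin.cons t a, hzU', ?_, kreg_cons_of_snoc a t
    (CAlgH.KoszulH1.kreg_of_isWeaklyRegular hweak), ?_, by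
      simp only [Fin.cons_succ, Fin.cons_zero]
      rw [List.ofFn_succ'] at hweak
      simpa only [Fin.snoc_castSucc, Fin.snoc_last, List.concat_eq_append] using hweak⟩
  · haveI : IsClosedImmersion (g ∣_ U.1) := IsZariskiLocalAtTarget.restrict (isClosedImmersion_projSpaceMap i) U.1
    haveI : IsClosedImmersion (centre i) := by unfold centre; infer_instance
    have hc : centre i = P1.sect Y 1 ≫ g := (sect_projSpaceMap i 1).symm
    rw [hc]
    ext z
    rw [Fin.range_cons, Ideal.span_insert, hspan, ← hgker, Scheme.Hom.ker_apply]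
    constructor
    · intro hz
      have hz' : ((g.app U.1).hom z) ∈ (sectIdeal Y 1).ideal ⟨_, hgU⟩ := by
        rw [sectIdeal, Scheme.Hom.ker_apply, RingHom.mem_ker]
        rw [RingHom.mem_ker] at hz
        exact hz
      rw [htY] at hz'
      obtain ⟨r, hr⟩ := Ideal.mem_span_singleton'.1 hz'
      obtain ⟨r', rfl⟩ := CAlgH.RegImmStalk.app_surjective_of_restrict g U.2 r
      rw [Submodule.mem_sup]
      refine ⟨r' * t, Ideal.mem_span_singleton'.2 ⟨r', rfl⟩, z - r' * t, ?_, add_sub_cancel _ _⟩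
      rw [Scheme.Hom.ker_apply, RingHom.mem_ker, map_sub, map_mul, sub_eq_zero, hr]
    · intro hz
      rw [Submodule.mem_sup] at hz
      obtain ⟨u, hu, v, hv, rfl⟩ := hz
      obtain ⟨r, rfl⟩ := Ideal.mem_span_singleton'.1 hu
      rw [Scheme.Hom.ker_apply, RingHom.mem_ker] at hv
      have ht0 : (g.app U.1).hom t ∈ (sectIdeal Y 1).ideal ⟨_, hgU⟩ := htY.ge (Ideal.mem_span_singleton_self _)
      rw [sectIdeal, Scheme.Hom.ker_apply, RingHom.mem_ker] at ht0
      rw [RingHom.mem_ker]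
      show ((P1.sect Y 1).app _).hom ((g.app U.1).hom (r * t + v)) = 0
      rw [map_add, hv, add_zero, map_mul, map_mul, ht0, mul_zero]
  · simp only [Fin.cons_succ]
    rw [hspan]
    exact hgker

/-- The chart of the strict transform. -/
theorem exists_strict_chart' {P M Z : Scheme.{u}} {I : P.IdealSheafData} {b : M ⟶ P}
    (hb : BlowUp.IsBlowUp b I) (g : Z ⟶ P) [IsClosedImmersion g]
    {F : Z ⟶ M} (hF : F ≫ b = g) (hgI : BlowUp.IsEffCartierIdeal (I.comap g)) (U : P.affineOpens) {d : ℕ}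
    (f : Fin (d + 1) → Γ(P, U.1)) (hI : I.ideal U = Ideal.span (Set.range f))
    (hw : IsWeaklyRegular Γ(P, U.1) ((List.ofFn fun j : Fin d => f j.succ) ++ [f 0]))
    (hker : g.ker.ideal U = Ideal.span (Set.range fun j : Fin d => f j.succ)) :
    ∃ (V : M.affineOpens) (T : List Γ(M, V.1)),
      F ⁻¹ᵁ V.1 = g ⁻¹ᵁ U.1 ∧ RingHom.ker (F.app V.1).hom = Ideal.ofList T ∧ T.length = d ∧
      IsWeaklyRegular Γ(M, V.1) T := by
  have ha : f 0 ∈ I.ideal U := hI ▸ Ideal.subset_span ⟨0, rfl⟩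
  obtain ⟨hV, η, hη⟩ := exists_chart_equiv hb U ha
  have hgU : IsAffineOpen (g ⁻¹ᵁ U.1) := U.2.preimage g
  let φ := (g.appLE U.1 (g ⁻¹ᵁ U.1) le_rfl).hom
  have hkφ : RingHom.ker φ = Ideal.span (Set.range fun j : Fin d => f j.succ) := by
    rw [← hker, Scheme.Hom.ker_apply, show φ = (g.app U.1).hom by rw [Scheme.Hom.app_eq_appLE]]
  have hgen : (I.comap g).ideal ⟨_, hgU⟩ = Ideal.span {φ (f 0)} := by
    rw [ProjLib.comap_ideal_eq I g U ⟨_, hgU⟩ le_rfl, hI, Ideal.map_span]
    refine le_antisymm (Ideal.span_le.2 ?_) (Ideal.span_le.2 ?_)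
    · rintro _ ⟨_, ⟨i, rfl⟩, rfl⟩
      rcases Fin.eq_zero_or_eq_succ i with rfl | ⟨j, rfl⟩
      · exact Ideal.subset_span rfl
      · show φ (f j.succ) ∈ _
        have h0 : φ (f j.succ) = 0 := RingHom.mem_ker.1 (hkφ.ge (Ideal.subset_span ⟨j, rfl⟩))
        rw [h0]
        exact zero_mem _
    · rintro _ rfl
      exact Ideal.subset_span ⟨f 0, ⟨0, rfl⟩, rfl⟩
  have hpre : F ⁻¹ᵁ locus I b U (f 0) = g ⁻¹ᵁ U.1 := by
    rw [preimage_locus ha b hb.1 F (hF ▸ hgI), hF]
    refine le_antisymm (locus_le g U (f 0)) fun z hz => ?_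
    exact mem_locus.2 ⟨⟨_, hgU⟩, hz, le_rfl, hgen⟩
  let ψ := (F.appLE (locus I b U (f 0)) (g ⁻¹ᵁ U.1) hpre.ge).hom
  have hψ : (ψ.comp η.toRingHom).comp (algebraMap _ _) = φ := RingHom.ext fun x => by
    show ψ (η (algebraMap _ _ x)) = φ x
    rw [hη]
    show ((b.appLE _ _ _) ≫ (F.appLE _ _ _)).hom x = _
    rw [Scheme.Hom.appLE_comp_appLE]
    simp only [hF, φ]
  have hreg : IsLeftRegular (φ (f 0)) := fun x y h =>
    (mul_cancel_left_mem_nonZeroDivisors (mem_nonZeroDivisors_of_eff hgI hgen)).1 h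
  have hk := ker_eq_span_rat f hI φ (ψ.comp η.toRingHom) hψ hkφ hreg
  refine ⟨⟨_, hV⟩, (List.ofFn (rat f hI)).map η, hpre, ?_, by simp, ?_⟩
  · have e1 : RingHom.ker (F.app (locus I b U (f 0))).hom = RingHom.ker ψ := by
      show _ = RingHom.ker ((Z.presheaf.map _).hom.comp (F.app _).hom)
      rw [RingHom.ker_comp_of_injective]
      haveI : IsIso (homOfLE hpre.ge : (g ⁻¹ᵁ U.1 : Z.Opens) ⟶ F ⁻¹ᵁ locus I b U (f 0)) :=
        ⟨homOfLE hpre.le, rfl, rfl⟩
      exact (ConcreteCategory.bijective_of_isIso _).1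
    refine e1.trans ?_
    rw [show Ideal.ofList ((List.ofFn (rat f hI)).map η) = (Ideal.ofList (List.ofFn (rat f hI))).map η.toRingHom from
      (Ideal.map_ofList η.toRingHom _).symm,
      show Ideal.ofList (List.ofFn (rat f hI)) = Ideal.span (Set.range (rat f hI)) from
        congrArg Ideal.span (Set.ext fun r => List.mem_ofFn), ← hk]
    ext z
    obtain ⟨z, rfl⟩ := η.surjective z
    constructor
    · intro hz
      exact Ideal.mem_map_of_mem η.toRingHom (show z ∈ RingHom.ker (ψ.comp η.toRingHom) from hz)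
    · intro hz
      obtain ⟨y, hy, hye⟩ := (Ideal.mem_map_iff_of_surjective η.toRingHom η.surjective).1 hz
      rw [← hye]
      exact hy
  · exact (η.toAddEquiv.isWeaklyRegular_congr (as := List.ofFn (rat f hI))
      (bs := (List.ofFn (rat f hI)).map η)
      (List.forall₂_map_right_iff.2 (List.forall₂_same.2 fun x _ y => map_mul η x y))).1
        (isWeaklyRegular_rat f hI hw)

/-- The strict transform is a regular closed immersion of the same codimension. -/
theorem isRegularImmersion_strict {d : ℕ} (hi : RegImm.IsRegularImmersionOfCodim RegImm.Kind.regular d i)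
    {M : Scheme.{u}} (b : M ⟶ KRR.PY 1 X) (hb : BlowUp.IsBlowUp b (centre i).ker)
    (j : KRR.PY 1 Y ⟶ M) (hj : j ≫ b = KRR.projSpaceMap 1 i) :
    IsClosedImmersion j ∧ RegImm.IsRegularImmersionOfCodim RegImm.Kind.regular d j := by
  haveI := isClosedImmersion_projSpaceMap i
  haveI : IsClosedImmersion (centre i) := by unfold centre; infer_instance
  have hfin : BlowUp.IsFiniteTypeIdeal (centre i).ker :=
    BlowUpCoh.isFiniteType_of_koszulBasis (k := 0) (BlowUpCoh.koszulBasis_of_local fun x hx => by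
      have hx' : x ∈ ((centre i).ker.support : Set _) := hx
      rw [Scheme.Hom.support_ker] at hx'
      obtain ⟨y, rfl⟩ := (centre i).isClosedEmbedding.isClosed_range.closure_eq.le hx'
      obtain ⟨U, F, hU, hI, hF, -, -⟩ := exists_coords' i hi (P1.sect Y 1 y)
      rw [← Scheme.Hom.comp_apply, sect_projSpaceMap] at hU
      exact ⟨U, d, F, hU, Nat.zero_le _, hI, hF⟩)
  haveI : IsProper b := BlowUpLib.isProper_of_isBlowUp hb hfin
  haveI : IsClosedImmersion (j ≫ b) := by rw [hj]; infer_instance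
  haveI : IsClosedImmersion j := IsClosedImmersion.of_comp j b
  refine ⟨inferInstance, inferInstance, fun z => ?_⟩
  obtain ⟨U, F, hzU, hI, -, hker, hw⟩ := exists_coords' i hi z
  obtain ⟨V, T, hpre, hk, hT, hreg⟩ := exists_strict_chart' hb (KRR.projSpaceMap 1 i) hj
    (by rw [comap_centre']; exact isEffCartier_sect Y 1) U F hI hw hker
  have hzV : z ∈ j ⁻¹ᵁ V.1 := hpre ▸ hzU
  refine ⟨V, hzV, IsZariskiLocalAtTarget.restrict (P := @IsClosedImmersion) (show IsClosedImmersion j by infer_instance) _, T, hT, ⟨hreg, ?_⟩, hk⟩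
  intro h
  rw [smul_eq_mul, Ideal.mul_top, ← hk] at h
  haveI : Nonempty ↥(j ⁻¹ᵁ V.1) := ⟨⟨z, hzV⟩⟩
  exact RingHom.ker_ne_top (j.app V.1).hom h.symm

end Groth.Agent.DefSp24
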