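import Groth.Agent.KRR28.Deform

/-!
# The coordinates of the strict transform form a regular sequence (no Noetherian hypotheses)
-/

set_option autoImplicit false
set_option backward.isDefEq.respectTransparency false
set_option linter.style.haveILetI false
set_option maxSynthPendingDepth 3
set_option maxHeartbeats 800000
set_option synthInstance.maxHeartbeats 100000

universe u

open MvPolynomial RingTheory.Sequence
open Groth.Agent.CAlgH.KoszulRegular Groth.Agent.BlowUpKoszul Groth.Agent.KRR28

noncomputable section

namespace Groth.Agent.DefSp24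

/-- In the chart at `f 0` the ratios `f j / f 0` form a regular sequence when `f 1, …, f m, f 0` is one. -/
theorem isWeaklyRegular_rat : ∀ {m : ℕ} {A : Type u} [CommRing A] {I : Ideal A} (f : Fin (m + 1) → A)
    (hI : I = Ideal.span (Set.range f))
    (_ : IsWeaklyRegular A ((List.ofFn fun j : Fin m => f j.succ) ++ [f 0])),
    IsWeaklyRegular (CR I (f 0)) (List.ofFn (rat f hI)) := by
  intro m
  induction m with
  | zero =>
    intro A _ I f hI _
    rw [List.ofFn_zero]
    exact IsWeaklyRegular.nil _ _
  | succ m ih =>
    intro A _ I f hI hw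
    rw [List.ofFn_succ, List.cons_append] at hw
    let a := f (Fin.succ 0)
    let B := A ⧸ Ideal.span {a}
    let π : A →+* B := Ideal.Quotient.mk _
    have hπa : π a = 0 := Ideal.Quotient.eq_zero_iff_mem.2 (Ideal.mem_span_singleton_self a)
    let f' : Fin (m + 1) → B := Fin.cons (π (f 0)) fun j => π (f j.succ.succ)
    have hf'0 : f' 0 = π (f 0) := rfl
    have hf's : ∀ j : Fin m, f' j.succ = π (f j.succ.succ) := fun j => by simp [f']
    have hw' : IsWeaklyRegular B ((List.ofFn fun j : Fin m => f' j.succ) ++ [f' 0]) := by
      have h := isWeaklyRegular_map_of_cons π Ideal.Quotient.mk_surjective Ideal.mk_ker hw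
      rw [List.map_append, List.map_ofFn, List.map_singleton] at h
      simpa only [Function.comp_def, ← hf's, ← hf'0] using h
    let I' := Ideal.span (Set.range f')
    have hk : KReg f' := by
      have hs : IsWeaklyRegular B (List.ofFn (Fin.snoc (fun j => f' j.succ) (f' 0) : Fin (m + 1) → B)) := by
        rw [List.ofFn_succ']
        simpa only [Fin.snoc_castSucc, Fin.snoc_last, List.concat_eq_append] using hw'
      have := kreg_cons_of_snoc _ _ (CAlgH.KoszulH1.kreg_of_isWeaklyRegular hs)
      rwa [show (Fin.cons (f' 0) fun j => f' j.succ) = f' from Fin.cons_self_tail f'] at this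
    let L := Localization.Away (f 0)
    let L' := Localization.Away (f' 0)
    letI : Algebra A L' := ((algebraMap B L').comp π).toAlgebra
    let e : L →+* L' := IsLocalization.Away.lift (f 0) (g := (algebraMap B L').comp π)
      (show IsUnit (algebraMap B L' (f' 0)) from IsLocalization.Away.algebraMap_isUnit (f' 0))
    have he : ∀ x, e (algebraMap A L x) = algebraMap B L' (π x) := fun x => IsLocalization.Away.lift_eq _ _ _
    let R := CR I (f 0)
    let R' := CR I' (f' 0)
    let ψ : R →+* L' := e.comp (BlowUp.affineAlgebra A I (f 0)).val.toRingHom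
    let r' : Fin (m + 1) → R' := Fin.cases 0 (rat f' rfl)
    have hru : IsUnit (algebraMap B L' (f' 0)) := IsLocalization.Away.algebraMap_isUnit (f' 0)
    have hψr : ∀ j, ψ (rat f hI j) = (r' j : L') := fun j => hru.mul_left_cancel (by
      show algebraMap B L' (π (f 0)) * e (rat f hI j : L) = _
      rw [← he, ← map_mul, show algebraMap A L (f 0) * (rat f hI j : L) = algebraMap A L (f j.succ) from
        congrArg Subtype.val (algebraMap_mul_rat f hI j), he]
      cases j using Fin.cases with
      | zero =>
        show algebraMap B L' (π a) = algebraMap B L' (f' 0) * ((0 : R') : L')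
        rw [hπa, map_zero, ZeroMemClass.coe_zero, mul_zero]
      | succ i =>
        rw [← hf's]
        exact (congrArg Subtype.val (algebraMap_mul_rat f' rfl i)).symm)
    let h : MvPolynomial (Fin (m + 1)) A →+* MvPolynomial (Fin m) B :=
      eval₂Hom (C.comp π) (Fin.cases 0 X)
    have hψp : ∀ p, ψ (aeval (rat f hI) p) = ((aeval (rat f' rfl) (h p) : R') : L') := by
      intro p
      induction p using MvPolynomial.induction_on with
      | C c =>
        simp only [aeval_C, h, eval₂Hom_C, RingHom.comp_apply]
        exact he c
      | add p q hp hq =>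
        simp only [map_add, hp, hq]
        rfl
      | mul_X p i hp =>
        simp only [map_mul, hp, aeval_X, hψr, h, eval₂Hom_X']
        cases i using Fin.cases with
        | zero => simp [r']
        | succ i => simp [r']
    have hmem : ∀ z : R, ψ z ∈ BlowUp.affineAlgebra B I' (f' 0) := fun z => by
      obtain ⟨p, rfl⟩ := aeval_rat_surjective f hI z
      rw [hψp]
      exact SetLike.coe_mem _
    let χ : R →+* R' := ψ.codRestrict (BlowUp.affineAlgebra B I' (f' 0)).toSubsemiring hmem
    have hχp : ∀ p, χ (aeval (rat f hI) p) = aeval (rat f' rfl) (h p) := fun p => Subtype.ext (hψp p)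
    have hχs : Function.Surjective χ := fun z => by
      obtain ⟨q, rfl⟩ := aeval_rat_surjective f' rfl z
      obtain ⟨p, hp⟩ : ∃ p, h p = q := by
        induction q using MvPolynomial.induction_on with
        | C c =>
          obtain ⟨c, rfl⟩ := Ideal.Quotient.mk_surjective c
          exact ⟨C c, eval₂Hom_C _ _ c⟩
        | add p q hp hq =>
          obtain ⟨p', rfl⟩ := hp
          obtain ⟨q', rfl⟩ := hq
          exact ⟨p' + q', map_add _ _ _⟩
        | mul_X p i hp =>
          obtain ⟨p', rfl⟩ := hp
          exact ⟨p' * X i.succ, by simp [h]⟩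
      exact ⟨aeval (rat f hI) p, (hχp p).trans (by rw [hp])⟩
    let t : R := rat f hI 0
    have hχt : χ t = 0 := Subtype.ext ((hψr 0).trans (by simp [r']))
    have hχk : RingHom.ker χ = Ideal.span {t} := by
      refine le_antisymm (fun z hz => ?_) ((Ideal.span_singleton_le_iff_mem _).2 hχt)
      obtain ⟨p, rfl⟩ := aeval_rat_surjective f hI z
      let mkQ : R →+* R ⧸ Ideal.span {t} := Ideal.Quotient.mk _
      have hat : mkQ t = 0 := Ideal.Quotient.eq_zero_iff_mem.2 (Ideal.mem_span_singleton_self t)
      have haQ : mkQ (algebraMap A R a) = 0 := by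
        rw [← algebraMap_mul_rat f hI 0, map_mul, hat, mul_zero]
      let ι : B →+* R ⧸ Ideal.span {t} := Ideal.Quotient.lift _ (mkQ.comp (algebraMap A R)) (fun x hx => by
        obtain ⟨c, rfl⟩ := Ideal.mem_span_singleton'.1 hx
        simp [haQ])
      let g : MvPolynomial (Fin m) B →+* R ⧸ Ideal.span {t} := eval₂Hom ι (fun j => mkQ (rat f hI j.succ))
      have hg : g.comp h = mkQ.comp (aeval (rat f hI)).toRingHom := by
        refine MvPolynomial.ringHom_ext (fun c => ?_) (fun i => ?_)
        · show g (h (C c)) = mkQ (aeval (rat f hI) (C c))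
          simp only [h, g, eval₂Hom_C, RingHom.comp_apply, aeval_C]
          rfl
        · show g (h (X i)) = mkQ (aeval (rat f hI) (X i))
          cases i using Fin.cases with
          | zero =>
            simp only [h, g, eval₂Hom_X', aeval_X, Fin.cases_zero, map_zero]
            exact hat.symm
          | succ i =>
            simp only [h, g, eval₂Hom_X', aeval_X, Fin.cases_succ]
      have hrel : h p ∈ Ideal.span (Set.range (rel f' 0)) := by
        rw [← ker_aeval_ratio f' 0 hk, RingHom.mem_ker, ← aeval_rat_val f' rfl (h p), ← hχp,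
          RingHom.mem_ker.1 hz]
        rfl
      have hle : Ideal.span (Set.range (rel f' 0)) ≤ RingHom.ker g := by
        rw [Ideal.span_le]
        rintro _ ⟨j, rfl⟩
        simp only [rel, Fin.succAbove_zero, SetLike.mem_coe, RingHom.mem_ker, map_sub, map_mul, g, eval₂Hom_C,
          eval₂Hom_X', hf'0, hf's, sub_eq_zero]
        show mkQ (algebraMap A R (f 0)) * mkQ (rat f hI j.succ) = mkQ (algebraMap A R (f j.succ.succ))
        rw [← map_mul, algebraMap_mul_rat]
      refine Ideal.Quotient.eq_zero_iff_mem.1 ?_
      show mkQ (aeval (rat f hI) p) = 0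
      exact ((RingHom.congr_fun hg p).symm).trans (RingHom.mem_ker.1 (hle hrel))
    rw [List.ofFn_succ]
    refine weaklyRegular_cons_of_quotient χ hχs t hχk ?_ _ ?_
    · have hareg : IsSMulRegular A a := ((isWeaklyRegular_cons_iff _ _ _).1 hw).1
      haveI : Module.Flat A L := IsLocalization.flat L (Submonoid.powers (f 0))
      intro x y hxy
      refine Subtype.ext (hareg.of_flat ?_)
      have h0 : algebraMap A L a * (x : L) = algebraMap A L a * (y : L) := by
        have h1 : (algebraMap A R (f 0) * t) * x = (algebraMap A R (f 0) * t) * y := by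
          rw [mul_assoc, mul_assoc]; exact congrArg (_ * ·) hxy
        rw [algebraMap_mul_rat] at h1
        exact congrArg Subtype.val h1
      simpa [Algebra.smul_def] using h0
    · rw [List.map_ofFn]
      rw [show (χ ∘ fun i => rat f hI i.succ) = rat f' rfl from funext fun j =>
        Subtype.ext ((hψr j.succ).trans (by simp [r']))]
      exact ih f' rfl hw'

end Groth.Agent.DefSp24
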